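import Groth.Prelude.Def_Coh
import Mathlib.AlgebraicGeometry.Modules.Sheaf

/-!
# Global sections as maps out of the structure sheaf, and as scalars
-/

set_option autoImplicit false
set_option backward.isDefEq.respectTransparency false

universe u

open CategoryTheory Limits Opposite TopologicalSpace AlgebraicGeometry

noncomputable section

namespace Groth.Agent.QCohAffine

variable {X : Scheme.{u}}

lemma res_self (M : X.Modules) {U : X.Opens} (s : Γ(M, U)) :
    M.presheaf.map (homOfLE (le_refl U)).op s = s := by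
  rw [show (homOfLE (le_refl U)).op = 𝟙 (op U) from rfl, M.presheaf.map_id]
  rfl

lemma res_res (M : X.Modules) {U V W : X.Opens} (h₁ : U ≤ V) (h₂ : V ≤ W) (t : Γ(M, W)) :
    M.presheaf.map (homOfLE h₁).op (M.presheaf.map (homOfLE h₂).op t) =
      M.presheaf.map (homOfLE (h₁.trans h₂)).op t := by
  rw [← ConcreteCategory.comp_apply, ← Functor.map_comp]
  rfl

/-- The map out of the structure module determined by a global section. -/
def secHom (M : X.Modules) (s : Γ(M, ⊤)) : Coh.structureModule X ⟶ M :=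
  (SheafOfModules.unitHomEquiv M).symm
    ⟨fun U => M.presheaf.map (homOfLE (le_top : U.unop ≤ ⊤)).op s, fun {U V} i => by
      exact res_res M i.unop.le le_top s⟩

/-- The global section of a map out of the structure module. -/
def homSec {M : X.Modules} (φ : Coh.structureModule X ⟶ M) : Γ(M, ⊤) := φ.app ⊤ (1 : Γ(X, ⊤))

lemma homSec_eq {M : X.Modules} (φ : Coh.structureModule X ⟶ M) (U : X.Opens) :
    φ.app U (1 : Γ(X, U)) = M.presheaf.map (homOfLE (le_top : U ≤ ⊤)).op (homSec φ) :=
  ((SheafOfModules.unitHomEquiv M φ).property (homOfLE (le_top : U ≤ ⊤)).op).symm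

lemma homSec_secHom (M : X.Modules) (s : Γ(M, ⊤)) : homSec (secHom M s) = s := by
  have h := congrArg (fun σ => σ.val (op (⊤ : X.Opens)))
    ((SheafOfModules.unitHomEquiv M).apply_symm_apply
      ⟨fun U => M.presheaf.map (homOfLE (le_top : U.unop ≤ ⊤)).op s, fun {U V} i => by
        exact res_res M i.unop.le le_top s⟩)
  exact h.trans (res_self M s)

lemma hom_ext_sec {M : X.Modules} {φ ψ : Coh.structureModule X ⟶ M} (h : homSec φ = homSec ψ) :
    φ = ψ := by
  apply (SheafOfModules.unitHomEquiv M).injective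
  refine Subtype.ext (funext fun U => ?_)
  show φ.app U.unop (1 : Γ(X, U.unop)) = ψ.app U.unop (1 : Γ(X, U.unop))
  rw [homSec_eq, homSec_eq, h]

lemma homSec_comp {M N : X.Modules} (φ : Coh.structureModule X ⟶ M) (p : M ⟶ N) :
    homSec (φ ≫ p) = p.app ⊤ (homSec φ) := rfl

/-- Multiplication by a global function. -/
def mulBy (a : Γ(X, ⊤)) (M : X.Modules) : M ⟶ M :=
  ⟨PresheafOfModules.homMk
    { app := fun U => AddCommGrpCat.ofHom (X := (M.presheaf.obj (op U.unop))) (Y := (M.presheaf.obj (op U.unop)))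
        (DistribSMul.toAddMonoidHom Γ(M, U.unop) (X.presheaf.map (homOfLE (le_top : U.unop ≤ ⊤)).op a))
      naturality := fun U V i => by
        ext t
        obtain ⟨U⟩ := U
        obtain ⟨V⟩ := V
        change Γ(M, U) at t
        change X.presheaf.map (homOfLE (le_top : V ≤ ⊤)).op a • (M.presheaf.map i t : Γ(M, V)) =
          M.presheaf.map i (X.presheaf.map (homOfLE (le_top : U ≤ ⊤)).op a • t)
        rw [show i = (homOfLE i.unop.le).op from rfl]
        erw [Scheme.Modules.map_smul]
        rw [← ConcreteCategory.comp_apply, ← Functor.map_comp]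
        rfl }
    (fun U r t => by
      change Γ(X, U.unop) at r
      change Γ(M, U.unop) at t
      change (X.presheaf.map _ a : Γ(X, U.unop)) • (r • t) = r • ((X.presheaf.map _ a : Γ(X, U.unop)) • t)
      exact smul_comm _ _ _)⟩

lemma mulBy_app (a : Γ(X, ⊤)) (M : X.Modules) (U : X.Opens) (t : Γ(M, U)) :
    (mulBy a M).app U t = X.presheaf.map (homOfLE (le_top : U ≤ ⊤)).op a • t := rfl

lemma mulBy_naturality (a : Γ(X, ⊤)) {M N : X.Modules} (g : M ⟶ N) :
    g ≫ mulBy a N = mulBy a M ≫ g := by
  refine Scheme.Modules.hom_ext _ _ fun U => ?_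
  ext t
  show (mulBy a N).app U (g.app U t) = g.app U ((mulBy a M).app U t)
  rw [mulBy_app, mulBy_app, Scheme.Modules.Hom.app_smul]

lemma structure_hom_eq_mulBy (φ : Coh.structureModule X ⟶ Coh.structureModule X) :
    φ = mulBy (homSec φ : Γ(X, ⊤)) (Coh.structureModule X) := by
  apply hom_ext_sec
  show _ = (mulBy (X := X) (homSec φ : Γ(X, ⊤)) (Coh.structureModule X)).app ⊤ (1 : Γ(X, ⊤))
  rw [mulBy_app]
  refine Eq.trans ?_ (_root_.mul_one (X.presheaf.map (homOfLE (le_top : (⊤ : X.Opens) ≤ ⊤)).op (homSec φ : Γ(X, ⊤)))).symm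
  exact (res_self (Coh.structureModule X) (homSec φ)).symm

end Groth.Agent.QCohAffine

namespace Groth.Agent.QCohAffine

variable {X : Scheme.{u}}

lemma app_eq_smul {M : X.Modules} (φ : Coh.structureModule X ⟶ M) (U : X.Opens) (a : Γ(X, U)) :
    φ.app U a = a • M.presheaf.map (homOfLE (le_top : U ≤ ⊤)).op (homSec φ) := by
  rw [← homSec_eq, ← Scheme.Modules.Hom.app_smul]
  exact congrArg (φ.app U) (_root_.mul_one a).symm

end Groth.Agent.QCohAffine
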