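import Mathlib

/-!
# Modules whose residual duals are one-dimensional
-/

set_option autoImplicit false

universe u

namespace Groth.Agent.QCohAffine

variable {R : Type u} [CommRing R] {N : Type u} [AddCommGroup N] [Module R N]

/-- A finite module with one-dimensional duals at all maximal ideals is locally cyclic. -/
theorem exists_cyclic_away [Module.Finite R N]
    (m : Ideal R) [m.IsMaximal]
    (h : ∃ l : N →ₗ[R] R ⧸ m, l ≠ 0 ∧ ∀ l' : N →ₗ[R] R ⧸ m, ∃ c : R, l' = c • l) :
    ∃ (r : R) (n : N), r ∉ m ∧ ∀ x : N, ∃ c : R, r • x = c • n := by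
  obtain ⟨l, hl, hl'⟩ := h
  obtain ⟨n, hn⟩ : ∃ n, l n ≠ 0 := by
    by_contra hc
    push Not at hc
    exact hl (LinearMap.ext hc)
  have hker : ∀ x, l x = 0 → x ∈ (m • ⊤ : Submodule R N) := by
    intro x hx
    by_contra hxm
    letI := Ideal.Quotient.field m
    let q := (m • ⊤ : Submodule R N).mkQ
    have hq : q x ≠ 0 := fun h0 => hxm ((Submodule.Quotient.mk_eq_zero _).1 h0)
    obtain ⟨f, hf⟩ : ∃ f : Module.Dual (R ⧸ m) (N ⧸ (m • ⊤ : Submodule R N)), f (q x) ≠ 0 := by
      by_contra hc
      push Not at hc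
      exact hq ((Module.forall_dual_apply_eq_zero_iff (R ⧸ m) (q x)).1 hc)
    obtain ⟨c, hc⟩ := hl' ((f.restrictScalars R).comp q)
    refine hf ?_
    have := LinearMap.congr_fun hc x
    simpa [hx] using this
  have hsup : (⊤ : Submodule R N) ≤ Submodule.span R {n} ⊔ m • (⊤ : Submodule R N) := by
    intro x _
    letI := Ideal.Quotient.field m
    obtain ⟨c, hc⟩ := Ideal.Quotient.mk_surjective (l x * (l n)⁻¹)
    have h0 : l (x - c • n) = 0 := by
      rw [map_sub, map_smul, Algebra.smul_def, Ideal.Quotient.algebraMap_eq, hc, mul_assoc,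
        inv_mul_cancel₀ hn, mul_one, sub_self]
    exact Submodule.mem_sup.2 ⟨c • n, Submodule.smul_mem _ _ (Submodule.mem_span_singleton_self n),
      x - c • n, hker _ h0, add_sub_cancel _ _⟩
  let Q := N ⧸ Submodule.span R {n}
  have hQ : (⊤ : Submodule R Q) ≤ m • (⊤ : Submodule R Q) := by
    intro y _
    obtain ⟨x, rfl⟩ := Submodule.mkQ_surjective (Submodule.span R {n}) y
    obtain ⟨a, ha, b, hb, rfl⟩ := Submodule.mem_sup.1 (hsup (Submodule.mem_top (x := x)))
    rw [map_add, show (Submodule.span R {n}).mkQ a = 0 from (Submodule.Quotient.mk_eq_zero _).2 ha, zero_add]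
    have := Submodule.mem_map_of_mem (f := (Submodule.span R {n}).mkQ) hb
    rw [Submodule.map_smul''] at this
    exact Submodule.smul_mono le_rfl le_top this
  obtain ⟨r, hr1, hr⟩ := Submodule.exists_sub_one_mem_and_smul_eq_zero_of_fg_of_le_smul m
    (⊤ : Submodule R Q) Module.Finite.fg_top hQ
  refine ⟨r, n, fun hrm => ?_, fun x => ?_⟩
  · exact (inferInstance : m.IsMaximal).ne_top ((Ideal.eq_top_iff_one m).2 (by simpa using m.sub_mem hrm hr1))
  · have := hr ((Submodule.span R {n}).mkQ x) Submodule.mem_top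
    rw [← map_smul, Submodule.mkQ_apply, Submodule.Quotient.mk_eq_zero] at this
    obtain ⟨c, hc⟩ := Submodule.mem_span_singleton.1 this
    exact ⟨c, hc.symm⟩

/-- A faithful locally cyclic module is projective. -/
theorem projective_of_faithful (hfaith : ∀ a : R, (∀ x : N, a • x = 0) → a = 0)
    (h : ∀ m : Ideal R, m.IsMaximal → ∃ (r : R) (n : N), r ∉ m ∧ ∀ x : N, ∃ c : R, r • x = c • n) :
    Module.Projective R N := by
  classical
  choose r n hr c hc using h
  have hkey : ∀ m hm a, a • n m hm = 0 → r m hm * a = 0 := fun m hm a ha => hfaith _ fun x => by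
    rw [mul_comm, mul_smul, hc m hm x, smul_comm, ha, smul_zero]
  let ψ : ∀ m hm, N →ₗ[R] R := fun m hm =>
    { toFun := fun x => r m hm * c m hm x
      map_add' := fun x y => by
        have := hkey m hm (c m hm (x + y) - (c m hm x + c m hm y)) (by
          rw [sub_smul, add_smul, ← hc, ← hc, ← hc, smul_add, sub_self])
        linear_combination this
      map_smul' := fun a x => by
        have := hkey m hm (c m hm (a • x) - a * c m hm x) (by
          rw [sub_smul, mul_smul, ← hc, ← hc, smul_comm, sub_self])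
        simp only [RingHom.id_apply, smul_eq_mul]
        linear_combination this }
  have hψ : ∀ m hm x, ψ m hm x • n m hm = (r m hm * r m hm) • x := fun m hm x => by
    show (r m hm * c m hm x) • n m hm = _
    rw [mul_smul, ← hc, ← mul_smul]
  have hspan : Ideal.span (Set.range fun p : {m : Ideal R // m.IsMaximal} => r p.1 p.2 * r p.1 p.2) = ⊤ := by
    by_contra hne
    obtain ⟨m, hm, hle⟩ := Ideal.exists_le_maximal _ hne
    rcases hm.isPrime.mem_or_mem (hle (Ideal.subset_span ⟨⟨m, hm⟩, rfl⟩)) with h' | h' <;>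
      exact hr m hm h'
  obtain ⟨u, hu⟩ := Finsupp.mem_span_range_iff_exists_finsupp.1
    (show (1 : R) ∈ Submodule.span R (Set.range fun p : {m : Ideal R // m.IsMaximal} => r p.1 p.2 * r p.1 p.2) by
      rw [show Submodule.span R _ = _ from hspan]; trivial)
  let S := u.support
  let i : N →ₗ[R] (S → R) := LinearMap.pi fun p => u p.1 • ψ p.1.1 p.1.2
  let s : (S → R) →ₗ[R] N := Fintype.linearCombination R fun p : S => n p.1.1 p.1.2
  refine Module.Projective.of_split i s (LinearMap.ext fun x => ?_)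
  show (∑ p : S, (u p.1 * ψ p.1.1 p.1.2 x) • n p.1.1 p.1.2) = x
  simp only [mul_smul, hψ]
  simp only [← mul_smul, ← Finset.sum_smul]
  rw [Finset.sum_coe_sort S (fun p => u p * (r p.1 p.2 * r p.1 p.2))]
  have hu' : ∑ p ∈ S, u p * (r p.1 p.2 * r p.1 p.2) = 1 := by simpa [Finsupp.sum] using hu
  rw [hu', one_smul]

end Groth.Agent.QCohAffine
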