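import Groth.Agent.QCohAffine.Simple
import Groth.Agent.QCohAffine.Alg
import Groth.Agent.AffCritLib.Basic
import Groth.Agent.SerreAff.Free
import Mathlib.Algebra.Category.ModuleCat.Simple
import Mathlib.CategoryTheory.Simple

/-!
# A scheme with a module category as quasi-coherent modules is affine
-/

set_option autoImplicit false
set_option linter.style.haveILetI false
set_option backward.isDefEq.respectTransparency false

universe u

open CategoryTheory CategoryTheory.Limits AlgebraicGeometry TopologicalSpace Opposite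
open Groth.Agent.CohBase Groth.Agent.QCohLib

noncomputable section

namespace Groth.Agent.QCohAffine

variable {X : Scheme.{u}} {R : Type u} [CommRing R] (e : QCohCat.QCoh X ≌ ModuleCat.{u} R)

/-- The structure sheaf as a quasi-coherent module. -/
abbrev unitQ (X : Scheme.{u}) : QCohCat.QCoh X := ⟨Coh.structureModule X, (inferInstance : Coh.IsQCoh (Coh.structureModule X))⟩

/-- The module of the structure sheaf. -/
abbrev NN : ModuleCat.{u} R := e.functor.obj (unitQ X)

/-- Scalars on an object. -/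
def zR (r : R) (F : QCohCat.QCoh X) : F ⟶ F :=
  e.fullyFaithfulFunctor.preimage (r • 𝟙 (e.functor.obj F))

lemma map_zR (r : R) (F : QCohCat.QCoh X) : e.functor.map (zR e r F) = r • 𝟙 (e.functor.obj F) :=
  e.fullyFaithfulFunctor.map_preimage _

lemma zR_naturality (r : R) {F G : QCohCat.QCoh X} (g : F ⟶ G) : g ≫ zR e r G = zR e r F ≫ g := by
  apply e.functor.map_injective
  rw [Functor.map_comp, Functor.map_comp, map_zR, map_zR, Linear.comp_smul, Linear.smul_comp,
    Category.comp_id, Category.id_comp]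

/-- Endomorphisms of the structure sheaf are scalars. -/
theorem exists_scalar (φ : NN e ⟶ NN e) : ∃ r : R, φ = r • 𝟙 (NN e) := by
  obtain ⟨ψ, rfl⟩ := e.functor.map_surjective φ
  let a : Γ(X, ⊤) := homSec ψ.hom
  let μ : ∀ F : QCohCat.QCoh X, F ⟶ F := fun F => ⟨mulBy a F.obj⟩
  have hμ : ∀ {F G : QCohCat.QCoh X} (g : F ⟶ G), g ≫ μ G = μ F ≫ g := fun g =>
    ObjectProperty.hom_ext _ (mulBy_naturality a g.hom)
  have hψ : μ (unitQ X) = ψ := ObjectProperty.hom_ext _ (structure_hom_eq_mulBy ψ.hom).symm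
  let z : ∀ M : ModuleCat.{u} R, M ⟶ M := fun M =>
    e.counitIso.inv.app M ≫ e.functor.map (μ (e.inverse.obj M)) ≫ e.counitIso.hom.app M
  have hz : ∀ {M M' : ModuleCat.{u} R} (g : M ⟶ M'), g ≫ z M' = z M ≫ g := fun {M M'} g => by
    have h1 : g ≫ e.counitIso.inv.app M' = e.counitIso.inv.app M ≫ e.functor.map (e.inverse.map g) :=
      e.counitIso.inv.naturality g
    have h2 : e.functor.map (e.inverse.map g) ≫ e.counitIso.hom.app M' = e.counitIso.hom.app M ≫ g :=
      e.counitIso.hom.naturality g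
    simp only [z, Category.assoc]
    rw [reassoc_of% h1, ← Functor.map_comp_assoc, hμ, Functor.map_comp_assoc, h2]
  have hzN : z (NN e) = e.functor.map (μ (unitQ X)) := by
    simp only [z]
    rw [e.counitInv_app_functor, show e.counitIso.hom.app (NN e) = e.functor.map (e.unitInv.app (unitQ X)) from
      e.counit_app_functor _, ← Functor.map_comp, ← Functor.map_comp,
      reassoc_of% (hμ (e.unit.app (unitQ X)))]
    simp
  let r : R := z (ModuleCat.of R R) (1 : R)
  refine ⟨r, ModuleCat.hom_ext (LinearMap.ext fun m => ?_)⟩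
  rw [← hψ, ← hzN]
  let g : ModuleCat.of R R ⟶ NN e := ModuleCat.ofHom (LinearMap.toSpanSingleton R (NN e) m)
  have h := ConcreteCategory.congr_hom (hz g) (1 : R)
  change z (NN e) ((1 : R) • m) = (r : R) • m at h
  rw [one_smul] at h
  exact h

lemma quasiCompact_ι [QuasiSeparatedSpace X] {W : X.Opens} (hW : IsAffineOpen W) : QuasiCompact W.ι := by
  rw [quasiCompact_iff_forall_isAffineOpen]
  intro V hV
  rw [show ((W.ι ⁻¹ᵁ V : (W : Scheme.{u}).Opens) : Set (W : Scheme.{u})) = W.ι ⁻¹' (V : Set X) from rfl,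
    W.ι.isOpenEmbedding.isInducing.isCompact_iff]
  rw [Set.image_preimage_eq_inter_range, Scheme.Opens.range_ι]
  exact QuasiSeparatedSpace.inter_isCompact _ _ V.2 hV.isCompact W.2 hW.isCompact

variable [CompactSpace X] [QuasiSeparatedSpace X]

/-- The structure sheaf is faithful. -/
theorem faithful_NN (r : R) (h : ∀ x : NN e, r • x = 0) : r = 0 := by
  have h0 : zR e r (unitQ X) = 0 := e.functor.map_injective (by
    rw [map_zR, Functor.map_zero]
    exact ModuleCat.hom_ext (LinearMap.ext h))
  have hall : ∀ F : QCohCat.QCoh X, zR e r F = 0 := fun F => by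
    haveI : Coh.IsQCoh F.obj := F.property
    apply ObjectProperty.hom_ext
    apply (Scheme.Modules.toPresheaf X).map_injective
    refine TopCat.Sheaf.hom_ext F.obj.presheaf ⟨F.obj.presheaf, F.obj.isSheaf⟩
      (B := fun W : X.affineOpens => W.1) (by rw [Subtype.range_coe_subtype]; exact X.isBasis_affineOpens)
      fun W => ?_
    ext s
    let j := W.1.ι
    haveI : QuasiCompact j := quasiCompact_ι W.2
    let adj := Scheme.Modules.restrictAdjunction j
    haveI : Coh.IsQCoh ((Scheme.Modules.restrictFunctor j).obj F.obj) := inferInstance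
    let J : QCohCat.QCoh X := ⟨(Scheme.Modules.pushforward j).obj ((Scheme.Modules.restrictFunctor j).obj F.obj),
      isQCoh_pushforward _ j⟩
    let η : F ⟶ J := ⟨adj.unit.app F.obj⟩
    have hJ : ∀ t : Γ(J.obj, ⊤), (zR e r J).hom.app ⊤ t = 0 := fun t => by
      let φ : unitQ X ⟶ J := ⟨secHom J.obj t⟩
      have := congrArg (fun g : unitQ X ⟶ J => homSec g.hom) (zR_naturality e r φ)
      rw [h0, zero_comp] at this
      change homSec (secHom J.obj t ≫ (zR e r J).hom) = homSec (0 : Coh.structureModule X ⟶ J.obj) at this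
      rw [homSec_comp, homSec_secHom] at this
      exact this
    have hle : W.1 ≤ j ''ᵁ j ⁻¹ᵁ W.1 := fun z hz => ⟨⟨z, hz⟩, hz, rfl⟩
    have htop : (j ''ᵁ j ⁻¹ᵁ (⊤ : X.Opens)) ≤ W.1 := W.1.ι_image_le _
    let t : Γ(J.obj, ⊤) := (F.obj.restrictAppIso j _).inv (F.obj.presheaf.map (homOfLE htop).op s)
    have hts : J.obj.presheaf.map (homOfLE (le_top : W.1 ≤ ⊤)).op t = η.hom.app W.1 s := by
      show F.obj.presheaf.map _ (F.obj.presheaf.map (homOfLE htop).op s) = _
      erw [Scheme.Modules.restrictAdjunction_unit_app_app]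
      rw [← ConcreteCategory.comp_apply, ← Functor.map_comp]
      rfl
    have hn : η.hom.app W.1 ((zR e r F).hom.app W.1 s) = 0 := by
      have h1 : η.hom.app W.1 ((zR e r F).hom.app W.1 s) = (zR e r J).hom.app W.1 (η.hom.app W.1 s) :=
        (congrArg (fun g : F ⟶ J => g.hom.app W.1 s) (zR_naturality e r η)).symm
      rw [h1, ← hts]
      exact (ConcreteCategory.congr_hom ((zR e r J).hom.mapPresheaf.naturality
        (homOfLE (le_top : W.1 ≤ ⊤)).op) t).trans
        ((congrArg (J.obj.presheaf.map (homOfLE (le_top : W.1 ≤ ⊤)).op) (hJ t)).trans (map_zero _))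
    erw [Scheme.Modules.restrictAdjunction_unit_app_app] at hn
    have h2 := (res_res F.obj hle (j.image_preimage_le W.1) _).symm.trans
      (congrArg (F.obj.presheaf.map (homOfLE hle).op) hn)
    exact (res_self F.obj _).symm.trans (h2.trans (map_zero _))
  have h1 := map_zR e r (e.inverse.obj (ModuleCat.of R R))
  rw [hall, Functor.map_zero] at h1
  have h2 : r • 𝟙 (ModuleCat.of R R) = 0 := by
    have h' := congrArg (fun g => (e.counitIso.app (ModuleCat.of R R)).inv ≫ g ≫
      (e.counitIso.app (ModuleCat.of R R)).hom) h1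
    simp only [zero_comp, comp_zero, Linear.smul_comp, Linear.comp_smul] at h'
    erw [Category.id_comp, Iso.inv_hom_id] at h'
    exact h'.symm
  have h3 := ConcreteCategory.congr_hom h2 (1 : R)
  change r • (1 : R) = 0 at h3
  simpa using h3

omit [QuasiSeparatedSpace X] in
/-- The module of the structure sheaf is finite. -/
theorem finite_NN : Module.Finite R (NN e) := by
  classical
  let P := e.inverse.obj (ModuleCat.of R R)
  let g : NN e → (P ⟶ unitQ X) := fun n => e.fullyFaithfulFunctor.preimage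
    (e.counitIso.hom.app (ModuleCat.of R R) ≫ ModuleCat.ofHom (LinearMap.toSpanSingleton R (NN e) n))
  have hg : ∀ {F : QCohCat.QCoh X} (h : unitQ X ⟶ F) (n : NN e),
      g n ≫ h = 0 ↔ e.functor.map h n = 0 := fun {F} h n => by
    refine ⟨fun h0 => ?_, fun h0 => ?_⟩
    · have h1 := congrArg e.functor.map h0
      rw [Functor.map_comp, Functor.map_zero, e.fullyFaithfulFunctor.map_preimage, Category.assoc,
        ← comp_zero (f := e.counitIso.hom.app (ModuleCat.of R R)), cancel_epi] at h1
      have h2 := ConcreteCategory.congr_hom h1 (1 : R)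
      change e.functor.map h ((1 : R) • n) = 0 at h2
      rwa [one_smul] at h2
    · apply e.functor.map_injective
      rw [Functor.map_comp, Functor.map_zero, e.fullyFaithfulFunctor.map_preimage, Category.assoc]
      have : ModuleCat.ofHom (LinearMap.toSpanSingleton R (NN e) n) ≫ e.functor.map h = 0 :=
        ModuleCat.hom_ext (LinearMap.ext fun c => by
          show e.functor.map h (c • n) = 0
          rw [map_smul, h0, smul_zero])
      rw [this, comp_zero]
  have hex : ∀ x : X, ∃ (n : NN e) (U : X.Opens) (p : Γ(P.obj, U)),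
      x ∈ X.basicOpen ((g n).hom.app U p : Γ(X, U)) := by
    intro x
    by_contra hc
    push Not at hc
    let C : X.Opens := ⟨(closure ({x} : Set X))ᶜ, isClosed_closure.isOpen_compl⟩
    let 𝓘 := AffCritLib.supIdeal C
    let ιI := ClSub.idealModι 𝓘
    let Q : QCohCat.QCoh X := ⟨cokernel ιI,
      (isQCoh_image ιI (OmegaAffLib.isQCoh_idealMod _) (inferInstance : Coh.IsQCoh (Coh.structureModule X))).2⟩
    let π : unitQ X ⟶ Q := ⟨cokernel.π ιI⟩
    have hzero : ∀ n, g n ≫ π = 0 := fun n => by
      apply ObjectProperty.hom_ext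
      apply (Scheme.Modules.toPresheaf X).map_injective
      refine TopCat.Sheaf.hom_ext P.obj.presheaf ⟨Q.obj.presheaf, Q.obj.isSheaf⟩
        (B := fun W : X.affineOpens => W.1) (by rw [Subtype.range_coe_subtype]; exact X.isBasis_affineOpens)
        fun W => ?_
      ext p
      let a : Γ(X, W.1) := (g n).hom.app W.1 p
      have ha : a ∈ 𝓘.ideal W := by
        show a ∈ (Scheme.IdealSheafData.vanishingIdeal _).ideal W
        rw [Scheme.IdealSheafData.vanishingIdeal_ideal, PrimeSpectrum.mem_vanishingIdeal]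
        intro q hq
        by_contra hna
        have hmem : W.2.fromSpec q ∈ X.basicOpen a := by
          show q ∈ W.2.fromSpec ⁻¹ᵁ X.basicOpen a
          rw [W.2.fromSpec_preimage_basicOpen]
          exact hna
        have hq' : W.2.fromSpec q ∈ closure ({x} : Set X) := not_not.1 hq
        obtain ⟨z, hz, rfl⟩ := mem_closure_iff.1 hq' _ (X.basicOpen a).2 hmem
        exact hc n W.1 p hz
      obtain ⟨m, hm⟩ := (OmegaAffLib.mem_range_idealSect 𝓘 W a).1 ha
      show (cokernel.π ιI).app W.1 a = 0
      rw [← hm]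
      exact ConcreteCategory.congr_hom (congr($(cokernel.condition ιI).app W.1)) m
    have hπ : e.functor.map π = 0 := ModuleCat.hom_ext (LinearMap.ext fun n => (hg π n).1 (hzero n))
    have hπ' : π = 0 := e.functor.map_injective (hπ.trans (Functor.map_zero _ _ _).symm)
    obtain ⟨_, ⟨W : X.Opens, (hW : IsAffineOpen W), rfl⟩, hxW, -⟩ :=
      X.isBasis_affineOpens.exists_subset_of_mem_open (Set.mem_univ x) isOpen_univ
    haveI : Epi ιI := Abelian.epi_of_cokernel_π_eq_zero _ (congrArg (fun φ => φ.hom) hπ')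
    let S : ShortComplex X.Modules := ShortComplex.mk (kernel.ι ιI) ιI (kernel.condition _)
    have hS : S.ShortExact := ShortComplex.ShortExact.mk'
      (ShortComplex.exact_of_f_is_kernel _ (kernelIsKernel _)) inferInstance inferInstance
    obtain ⟨m, hm⟩ := app_surjective hS
      ((isQCoh_image ιI (OmegaAffLib.isQCoh_idealMod _) (inferInstance : Coh.IsQCoh (Coh.structureModule X))).1)
      hW (1 : Γ(X, W))
    have hle := AffCritLib.basicOpen_idealSect_le C W m
    rw [show OmegaSh.idealSect 𝓘 W m = (1 : Γ(X, W)) from hm] at hle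
    exact hle (by rw [Scheme.basicOpen_of_isUnit _ isUnit_one]; exact hxW) (subset_closure rfl)
  choose n U p hx using hex
  obtain ⟨J, hJ⟩ := (isCompact_univ (X := X)).elim_finite_subcover
    (fun x : X => (X.basicOpen ((g (n x)).hom.app (U x) (p x) : Γ(X, U x)) : Set X)) (fun x => Opens.isOpen _)
    fun x _ => Set.mem_iUnion.2 ⟨x, hx x⟩
  let T : Submodule R (NN e) := Submodule.span R (n '' (J : Set X))
  have hT : T = ⊤ := by
    let qm : NN e ⟶ ModuleCat.of R (NN e ⧸ T) := ModuleCat.ofHom T.mkQ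
    let F := e.inverse.obj (ModuleCat.of R (NN e ⧸ T))
    let h : unitQ X ⟶ F := e.fullyFaithfulFunctor.preimage
      (qm ≫ (e.counitIso.app (ModuleCat.of R (NN e ⧸ T))).inv)
    have hh : e.functor.map h = qm ≫ (e.counitIso.app (ModuleCat.of R (NN e ⧸ T))).inv :=
      e.fullyFaithfulFunctor.map_preimage _
    have hkill : ∀ x ∈ J, g (n x) ≫ h = 0 := fun x hxJ => (hg h (n x)).2 (by
      rw [hh, ConcreteCategory.comp_apply,
        show qm (n x) = 0 from (Submodule.Quotient.mk_eq_zero _).2 (Submodule.subset_span ⟨x, hxJ, rfl⟩)]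
      exact map_zero _)
    have h0 : h = 0 := by
      apply ObjectProperty.hom_ext
      apply hom_ext_sec
      let Fs : TopCat.Sheaf Ab X := ⟨F.obj.presheaf, F.obj.isSheaf⟩
      refine Fs.eq_of_locally_eq' (fun x : J => X.basicOpen ((g (n x.1)).hom.app (U x.1) (p x.1) : Γ(X, U x.1)))
        ⊤ (fun x => homOfLE le_top) (fun y _ => ?_) _ _ fun x => ?_
      · obtain ⟨x, hxJ, hy⟩ := Set.mem_iUnion₂.1 (hJ (Set.mem_univ y))
        exact Opens.mem_iSup.2 ⟨⟨x, hxJ⟩, hy⟩
      · refine Eq.trans ?_ (map_zero _).symm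
        set a : Γ(X, U x.1) := (g (n x.1)).hom.app (U x.1) (p x.1) with hadef
        have ha : h.hom.app (U x.1) a = 0 :=
          congrArg (fun φ : P ⟶ F => φ.hom.app (U x.1) (p x.1)) (hkill x.1 x.2)
        rw [app_eq_smul] at ha
        have h5 := congrArg (F.obj.presheaf.map (homOfLE (X.basicOpen_le a)).op) ha
        rw [map_zero, Scheme.Modules.map_smul, res_res] at h5
        have hu : IsUnit (X.presheaf.map (homOfLE (X.basicOpen_le a)).op a : Γ(X, X.basicOpen a)) :=
          RingedSpace.isUnit_res_basicOpen _ a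
        exact (IsUnit.smul_eq_zero hu (x := (F.obj.presheaf.map (homOfLE (le_top : X.basicOpen a ≤ ⊤)).op
          (homSec h.hom) : Γ(F.obj, X.basicOpen a)))).1 h5
    have hqm : qm = 0 := by
      rw [← cancel_mono (e.counitIso.app (ModuleCat.of R (NN e ⧸ T))).inv, ← hh, h0, Functor.map_zero, zero_comp]
    rw [← Submodule.ker_mkQ T, show T.mkQ = 0 from congrArg ModuleCat.Hom.hom hqm, LinearMap.ker_zero]
  exact ⟨hT ▸ Submodule.fg_span ((J.finite_toSet).image n)⟩

theorem oneDim (m : Ideal R) [m.IsMaximal] :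
    ∃ l : NN e →ₗ[R] R ⧸ m, l ≠ 0 ∧ ∀ l' : NN e →ₗ[R] R ⧸ m, ∃ c : R, l' = c • l := by
  haveI : IsSimpleModule R (R ⧸ m) := isSimpleModule_iff_isCoatom.2 (Ideal.isMaximal_def.1 inferInstance)
  haveI : Simple (ModuleCat.of R (R ⧸ m)) := simple_iff_isSimpleModule.2 inferInstance
  let M := ModuleCat.of R (R ⧸ m)
  let S := e.inverse.obj M
  let cM : e.functor.obj S ≅ M := e.counitIso.app M
  haveI hcm : Mono cM.hom := @IsIso.mono_of_iso _ _ _ _ _ cM.isIso_hom
  haveI : Simple S := by
    refine ⟨fun {Y} f _ => ?_⟩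
    haveI : e.functor.PreservesMonomorphisms := Functor.preservesMonomorphisms_of_adjunction e.symm.toAdjunction
    haveI : Mono (e.functor.map f) := e.functor.map_mono f
    haveI hf : Mono (e.functor.map f ≫ cM.hom) := mono_comp _ _
    refine ⟨fun hi h0 => ?_, fun hne => ?_⟩
    · have := (Simple.mono_isIso_iff_nonzero (e.functor.map f ≫ cM.hom)).1 inferInstance
      exact this (by rw [h0, Functor.map_zero, zero_comp])
    · have : IsIso (e.functor.map f ≫ cM.hom) := isIso_of_mono_of_nonzero fun h0 => hne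
        (e.functor.map_injective (by
          rw [Functor.map_zero, ← cancel_mono (cM.hom), h0, zero_comp]))
      haveI : IsIso (e.functor.map f) := IsIso.of_isIso_comp_right _ (cM.hom)
      exact isIso_of_fully_faithful e.functor f
  obtain ⟨φ, hφ⟩ := exists_ne_zero_top (S := S)
  let φQ : unitQ X ⟶ S := ⟨φ⟩
  have hφQ : φQ ≠ 0 := fun h => hφ (congrArg (fun g => g.hom) h)
  let T (g : unitQ X ⟶ S) : NN e ⟶ M := e.functor.map g ≫ cM.hom
  haveI : Epi φQ := epi_of_nonzero_to_simple hφQ
  have hT : ∀ g : unitQ X ⟶ S, ∃ c : R, T g = c • T φQ := fun g => by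
    have hk : kernel.ι φQ ≫ g = 0 := by
      apply ObjectProperty.hom_ext
      refine Scheme.Modules.hom_ext _ _ fun U => ?_
      ext a
      exact app_eq_zero_of_app_eq_zero hφ U _
        (congrArg (fun k : kernel φQ ⟶ S => k.hom.app U a) (kernel.condition φQ))
    let θ : S ⟶ S := Abelian.epiDesc φQ g hk
    let ζ : M ⟶ M := cM.inv ≫ e.functor.map θ ≫ cM.hom
    obtain ⟨c, hc⟩ := Ideal.Quotient.mk_surjective (ζ (1 : R ⧸ m))
    refine ⟨c, ?_⟩
    have hTg : T g = T φQ ≫ ζ := by
      simp only [T, ζ, Category.assoc, Iso.hom_inv_id_assoc]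
      rw [← Functor.map_comp_assoc, Abelian.comp_epiDesc]
    rw [hTg]
    refine ModuleCat.hom_ext (LinearMap.ext fun x => ?_)
    show ζ (T φQ x) = c • (T φQ x)
    obtain ⟨b, hb⟩ := Ideal.Quotient.mk_surjective (T φQ x)
    rw [← hb]
    have hb1 : Ideal.Quotient.mk m b = b • (1 : R ⧸ m) := by
      rw [Algebra.smul_def, _root_.mul_one]; rfl
    rw [hb1]
    erw [map_smul]
    rw [← hc, smul_comm]
    congr 1
    rw [← Ideal.Quotient.algebraMap_eq]
    exact ((Algebra.smul_def (A := R ⧸ m) c
      (1 : R ⧸ m)).trans (_root_.mul_one _)).symm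
  refine ⟨(T φQ).hom, fun h0 => hφQ ?_, fun l' => ?_⟩
  · apply e.functor.map_injective
    rw [Functor.map_zero, ← cancel_mono (cM.hom), zero_comp]
    exact ModuleCat.hom_ext h0
  · obtain ⟨g, hg⟩ := e.functor.map_surjective (ModuleCat.ofHom l' ≫ cM.inv)
    obtain ⟨c, hc⟩ := hT g
    refine ⟨c, ?_⟩
    have : T g = ModuleCat.ofHom l' := by simp [T, hg]
    exact congrArg ModuleCat.Hom.hom (this.symm.trans hc)

theorem isAffine_of_equivalence (e : QCohCat.QCoh X ≌ ModuleCat.{u} R) : IsAffine X := by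
  haveI := finite_NN e
  haveI : Module.Projective R (NN e) := projective_of_faithful (faithful_NN e) fun m hm =>
    exists_cyclic_away (R := R) (N := NN e) m (oneDim e m)
  haveI : Projective (NN e) := (NN e).projective_of_categoryTheory_projective
  refine Groth.Agent.SerreAffFree.isAffine ‹CompactSpace X› fun S n j hS _ h1 h2 h3 t => ?_
  let F2 : QCohCat.QCoh X := ⟨S.X₂, h2⟩
  let F3 : QCohCat.QCoh X := ⟨S.X₃, h3⟩
  let g : F2 ⟶ F3 := ⟨S.g⟩
  haveI : Epi g := by
    haveI : Epi ((QCohCat.isQCoh X).ι.map g) := hS.epi_g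
    exact (QCohCat.isQCoh X).ι.epi_of_epi_map inferInstance
  let φ : unitQ X ⟶ F3 := ⟨secHom S.X₃ t⟩
  let l : unitQ X ⟶ F2 := e.fullyFaithfulFunctor.preimage
    (Projective.factorThru (e.functor.map φ) (e.functor.map g))
  have hl : l ≫ g = φ := e.functor.map_injective (by
    rw [Functor.map_comp, e.fullyFaithfulFunctor.map_preimage, Projective.factorThru_comp])
  refine ⟨homSec l.hom, ?_⟩
  have h := congrArg (fun k : unitQ X ⟶ F3 => homSec k.hom) hl
  change homSec (l.hom ≫ S.g) = homSec (secHom S.X₃ t) at h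
  rw [homSec_comp, homSec_secHom] at h
  exact h

end Groth.Agent.QCohAffine
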