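import Groth.Agent.QCohAffine.Smul
import Groth.Agent.QCohNoeth.Main

/-!
# Simple quasi-coherent modules on quasi-compact quasi-separated schemes
-/

set_option autoImplicit false
set_option linter.style.haveILetI false

universe u

open CategoryTheory CategoryTheory.Limits AlgebraicGeometry TopologicalSpace Opposite
open Groth.Agent.CohBase Groth.Agent.QCohLib

noncomputable section

namespace Groth.Agent.QCohAffine

variable {X : Scheme.{u}}

lemma isIso_or_eq_zero {S : QCohCat.QCoh X} [Simple S] {Q : X.Modules} (hQ : Coh.IsQCoh Q)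
    (ψ : S.obj ⟶ Q) : Mono ψ ∨ ψ = 0 := by
  let K : QCohCat.QCoh X := ⟨kernel ψ, (isQCoh_image ψ S.property hQ).1⟩
  let κ : K ⟶ S := ⟨kernel.ι ψ⟩
  haveI : Mono κ := by
    haveI : Mono ((QCohCat.isQCoh X).ι.map κ) := inferInstanceAs (Mono (kernel.ι ψ))
    exact (QCohCat.isQCoh X).ι.mono_of_mono_map inferInstance
  by_cases h : κ = 0
  · exact Or.inl (Preadditive.mono_of_kernel_zero (congrArg (fun φ => φ.hom) h))
  · refine Or.inr ?_
    haveI : IsIso κ := isIso_of_mono_of_nonzero h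
    haveI : IsIso (kernel.ι ψ) := inferInstanceAs (IsIso ((QCohCat.isQCoh X).ι.map κ))
    rw [← cancel_epi (kernel.ι ψ), kernel.condition, comp_zero]

theorem submodule_dichotomy_aux (S : QCohCat.QCoh X) [Simple S] {A : CommRingCat.{u}}
    (i : Spec A ⟶ X) [IsOpenImmersion i] [QuasiCompact i] [QuasiSeparated i] (Γ₀ : ModuleCat.{u} A)
    (e : tilde Γ₀ ≅ (Scheme.Modules.restrictFunctor i).obj S.obj) (T : Submodule A Γ₀) :
    T = ⊥ ∨ T = ⊤ := by
  let R := Scheme.Modules.restrictFunctor i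
  let adj := Scheme.Modules.restrictAdjunction i
  let q : tilde Γ₀ ⟶ tilde (ModuleCat.of A (Γ₀ ⧸ T)) := tilde.map (ModuleCat.ofHom T.mkQ)
  let ψ := adj.homEquiv _ _ (e.inv ≫ q)
  have hq : Coh.IsQCoh ((Scheme.Modules.pushforward i).obj (tilde (ModuleCat.of A (Γ₀ ⧸ T)))) :=
    isQCoh_pushforward _ i
  have key : R.map ψ ≫ adj.counit.app _ = e.inv ≫ q :=
    (adj.homEquiv_counit _ _ _).symm.trans (Equiv.symm_apply_apply _ _)
  rcases isIso_or_eq_zero hq ψ with hm | h0
  · refine Or.inl ?_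
    haveI : PreservesFiniteLimits R := Groth.Agent.DCohLib.preservesFiniteLimits_restrictFunctor i
    haveI : Mono (R.map ψ) := R.map_mono ψ
    haveI : Mono (e.inv ≫ q) := by rw [← key]; infer_instance
    haveI : Mono q := by
      rw [← Iso.hom_inv_id_assoc e q]
      infer_instance
    haveI : Mono (ModuleCat.ofHom T.mkQ) :=
      (tilde.functor A).mono_of_mono_map (show Mono q by infer_instance)
    rw [← Submodule.ker_mkQ T]
    exact LinearMap.ker_eq_bot.2 ((ModuleCat.mono_iff_injective (ModuleCat.ofHom T.mkQ)).1 inferInstance)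
  · refine Or.inr ?_
    have hq0 : q = 0 := by
      rw [← Iso.hom_inv_id_assoc e q, ← key, h0, R.map_zero, zero_comp, comp_zero]
    have : ModuleCat.ofHom T.mkQ = 0 :=
      (tilde.functor A).map_injective (hq0.trans ((tilde.functor A).map_zero _ _).symm)
    rw [← Submodule.ker_mkQ T, show T.mkQ = 0 from congrArg ModuleCat.Hom.hom this, LinearMap.ker_zero]

variable [CompactSpace X] [QuasiSeparatedSpace X]

theorem submodule_dichotomy (S : QCohCat.QCoh X) [Simple S] {W : X.Opens} (hW : IsAffineOpen W)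
    (T : Submodule Γ(X, W) Γ(S.obj, W)) : T = ⊥ ∨ T = ⊤ := by
  haveI : Coh.IsQCoh S.obj := S.property
  haveI : IsIso (S.obj.restrict hW.fromSpec).fromTildeΓ :=
    (isIso_fromTildeΓ_iff_isLocalizing _).mpr (isLocalizing_of_locAt S.obj hW (locAt S.obj hW))
  have h : ∀ T' : Submodule Γ(X, W) Γ(S.obj.restrict hW.fromSpec, ⊤), T' = ⊥ ∨ T' = ⊤ :=
    submodule_dichotomy_aux S hW.fromSpec _ (asIso (S.obj.restrict hW.fromSpec).fromTildeΓ)
  let g := topEquiv S.obj hW
  rcases h (T.comap g.toLinearMap) with h1 | h1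
  · refine Or.inl ((Submodule.eq_bot_iff _).2 fun x hx => ?_)
    have : g.symm x ∈ T.comap g.toLinearMap := by simpa using hx
    rw [h1, Submodule.mem_bot] at this
    simpa using congrArg g this
  · refine Or.inr (eq_top_iff.2 fun x _ => ?_)
    have : g.symm x ∈ T.comap g.toLinearMap := by rw [h1]; trivial
    simpa using this

variable {S : QCohCat.QCoh X} [Simple S] {W : X.Opens} (hW : IsAffineOpen W)

include hW in
lemma span_eq_top {s : Γ(S.obj, W)} (hs : s ≠ 0) (t : Γ(S.obj, W)) : ∃ a : Γ(X, W), a • s = t := by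
  rcases submodule_dichotomy S hW (Submodule.span Γ(X, W) {s}) with h | h
  · exact absurd (Submodule.span_singleton_eq_bot.1 h) hs
  · exact Submodule.mem_span_singleton.1 (h ▸ Submodule.mem_top)

omit [CompactSpace X] [QuasiSeparatedSpace X] [Simple S] in
include hW in
/-- Sections vanish on opens covered by basic opens of annihilators. -/
lemma eq_zero_of_ann {U : X.Opens} (hU : U ≤ W)
    (h : ∀ (f : Γ(X, W)), X.basicOpen f ≤ U → ∀ s : Γ(S.obj, W), f • s = 0) (t : Γ(S.obj, U)) :
    t = 0 := by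
  haveI : Coh.IsQCoh S.obj := S.property
  let Ms : TopCat.Sheaf Ab X := ⟨S.obj.presheaf, S.obj.isSheaf⟩
  choose f hf hxf using fun x : U => hW.exists_basicOpen_le (V := U) ⟨x.1, x.2⟩ (hU x.2)
  refine Ms.eq_of_locally_eq' (fun x : U => X.basicOpen (f x)) U (fun x => homOfLE (hf x))
    (fun x hx => Opens.mem_iSup.2 ⟨⟨x, hx⟩, hxf ⟨x, hx⟩⟩) _ _ fun x => ?_
  obtain ⟨n, s, hs⟩ := (locAt S.obj hW).extend (f x) (S.obj.presheaf.map (homOfLE (hf x)).op t)
  have h0 := congrArg (fun z => X.presheaf.map (homOfLE (X.basicOpen_le (f x))).op (f x) • z) hs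
  simp only at h0
  rw [← Scheme.Modules.map_smul, h (f x) (hf x) s, map_zero, sc_apply, smul_smul] at h0
  have hu : IsUnit (X.presheaf.map (homOfLE (X.basicOpen_le (f x))).op (f x) *
      X.presheaf.map (homOfLE (X.basicOpen_le (f x))).op (f x ^ n)) := by
    rw [map_pow]
    exact (RingedSpace.isUnit_res_basicOpen _ (f x)).mul ((RingedSpace.isUnit_res_basicOpen _ (f x)).pow n)
  exact (hu.smul_eq_zero.1 h0.symm).trans (map_zero _).symm

omit [CompactSpace X] [QuasiSeparatedSpace X] in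
lemma exists_nonzero_affine : ∃ (W : X.Opens) (_ : IsAffineOpen W) (s : Γ(S.obj, W)), s ≠ 0 := by
  by_contra hc
  push Not at hc
  apply id_nonzero S
  apply ObjectProperty.hom_ext
  refine IsZero.eq_of_src ?_ _ _
  exact Groth.Agent.QCohNoeth.isZero_of_cover S.property (fun W : X.affineOpens => W.1) (fun W => W.2)
    (fun x => by
      obtain ⟨_, ⟨V, hV, rfl⟩, hx, -⟩ :=
        X.isBasis_affineOpens.exists_subset_of_mem_open (Set.mem_univ x) isOpen_univ
      exact ⟨⟨V, hV⟩, hx⟩) fun W => hc W.1 W.2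

variable {s : Γ(S.obj, W)} (hs : s ≠ 0)

/-- The annihilator of the sections. -/
def annW (W : X.Opens) (S : QCohCat.QCoh X) : Ideal Γ(X, W) := Module.annihilator Γ(X, W) Γ(S.obj, W)

include hW hs in
lemma annW_isMaximal : (annW W S).IsMaximal := by
  rw [Ideal.isMaximal_iff]
  refine ⟨fun h1 => hs (by simpa using Module.mem_annihilator.1 h1 s), fun J a hJ ha haJ => ?_⟩
  obtain ⟨t, ht⟩ : ∃ t : Γ(S.obj, W), a • t ≠ 0 := by
    by_contra hc
    push Not at hc
    exact ha (Module.mem_annihilator.2 hc)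
  obtain ⟨b, hb⟩ := span_eq_top hW ht t
  have hne : t ≠ 0 := fun h => ht (by rw [h, smul_zero])
  have h1 : (1 - b * a) ∈ annW W S := Module.mem_annihilator.2 fun x => by
    obtain ⟨c, rfl⟩ := span_eq_top hW hne x
    rw [sub_smul, one_smul, mul_smul, smul_comm a c t, smul_comm b c (a • t), hb, sub_self]
  have := J.add_mem (hJ h1) (J.mul_mem_left b haJ)
  simpa using this

/-- The point of the simple module. -/
def pt : X := hW.fromSpec ⟨annW W S, (annW_isMaximal hW hs).isPrime⟩

lemma pt_mem : pt hW hs ∈ W := hW.range_fromSpec.le ⟨_, rfl⟩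

lemma pt_mem_basicOpen {f : Γ(X, W)} : pt hW hs ∈ X.basicOpen f ↔ f ∉ annW W S := by
  show (⟨annW W S, (annW_isMaximal hW hs).isPrime⟩ : Spec Γ(X, W)) ∈ hW.fromSpec ⁻¹ᵁ X.basicOpen f ↔ _
  rw [hW.fromSpec_preimage_basicOpen]
  rfl

lemma eq_zero_of_notMem {U : X.Opens} (hU : U ≤ W) (hx : pt hW hs ∉ U) (t : Γ(S.obj, U)) : t = 0 :=
  eq_zero_of_ann hW hU (fun f hf z => by
    have : f ∈ annW W S := by
      by_contra hc
      exact hx (hf ((pt_mem_basicOpen hW hs).2 hc))
    exact Module.mem_annihilator.1 this z) t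

lemma res_ne_zero {f : Γ(X, W)} (hf : pt hW hs ∈ X.basicOpen f) :
    S.obj.presheaf.map (homOfLE (X.basicOpen_le f)).op s ≠ 0 := fun h0 => by
  haveI : Coh.IsQCoh S.obj := S.property
  obtain ⟨n, hn⟩ := (locAt S.obj hW).kill f s h0
  rw [sc_le_rfl] at hn
  have hfn : f ^ n ∉ annW W S := fun h =>
    (pt_mem_basicOpen hW hs).1 hf ((annW_isMaximal hW hs).isPrime.mem_of_pow_mem n h)
  refine hfn (Module.mem_annihilator.2 fun z => ?_)
  obtain ⟨c, rfl⟩ := span_eq_top hW hs z
  rw [smul_comm, hn, smul_zero]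

lemma isClosed_pt : IsClosed ({pt hW hs} : Set X) := by
  refine isClosed_of_closure_subset fun y hy => ?_
  set x := pt hW hs with hxdef
  obtain ⟨_, ⟨W' : X.Opens, hW' : IsAffineOpen W', rfl⟩, hy', -⟩ :=
    X.isBasis_affineOpens.exists_subset_of_mem_open (Set.mem_univ y) isOpen_univ
  have hxW' : x ∈ W' := by
    obtain ⟨z, hz, rfl⟩ := mem_closure_iff.1 hy (W' : Set X) W'.2 hy'
    exact hz
  obtain ⟨f, hfle, hxf⟩ := hW.exists_basicOpen_le (V := W') ⟨x, hxW'⟩ (pt_mem hW hs)
  obtain ⟨s', hs'⟩ : ∃ s' : Γ(S.obj, W'), s' ≠ 0 := by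
    by_contra hc
    push Not at hc
    exact res_ne_zero hW hs hxf (eq_zero_of_ann hW' hfle (fun g _ z => by rw [hc z, smul_zero]) _)
  set x' := pt hW' hs' with hx'def
  haveI := annW_isMaximal hW' hs'
  have hclosed : ∀ z ∈ W', x' ⤳ z → z = x' := by
    intro z hz hsp
    obtain ⟨q, rfl⟩ := hW'.range_fromSpec.ge hz
    have h2 := (hW'.fromSpec.isOpenEmbedding.toIsInducing.specializes_iff).1 hsp
    have hle : annW W' S ≤ q.asIdeal := (PrimeSpectrum.le_iff_specializes _ q).2 h2
    exact congrArg hW'.fromSpec (PrimeSpectrum.ext ((annW_isMaximal hW' hs').eq_of_le q.isPrime.ne_top hle).symm)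
  have hxx : x = x' := by
    by_contra hne
    have hns : ¬ x' ⤳ x := fun h => hne (hclosed x hxW' h)
    rw [specializes_iff_forall_open] at hns
    push Not at hns
    obtain ⟨U, hU, hxU, hx'U⟩ := hns
    obtain ⟨g, hgle, hxg⟩ := hW.exists_basicOpen_le (V := W' ⊓ ⟨U, hU⟩) ⟨x, hxW', hxU⟩ (pt_mem hW hs)
    exact res_ne_zero hW hs hxg (eq_zero_of_notMem hW' hs' (hgle.trans inf_le_left)
      (fun h => hx'U (hgle h).2) _)
  rw [Set.mem_singleton_iff, hxx]
  exact hclosed y hy' (specializes_iff_mem_closure.2 (hxx ▸ hy))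

include hW hs in
lemma res_inter_injective (U : X.Opens) :
    Function.Injective (S.obj.presheaf.map (homOfLE (inf_le_left : U ⊓ W ≤ U)).op) := by
  haveI : Coh.IsQCoh S.obj := S.property
  let adj := Scheme.Modules.restrictAdjunction W.ι
  haveI : QuasiCompact W.ι := by
    rw [quasiCompact_iff_forall_isAffineOpen]
    intro V hV
    rw [show ((W.ι ⁻¹ᵁ V : (W : Scheme.{u}).Opens) : Set (W : Scheme.{u})) = W.ι ⁻¹' (V : Set X) from rfl,
      W.ι.isOpenEmbedding.isInducing.isCompact_iff]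
    rw [Set.image_preimage_eq_inter_range, Scheme.Opens.range_ι]
    exact QuasiSeparatedSpace.inter_isCompact _ _ V.2 hV.isCompact W.2 hW.isCompact
  have hq : Coh.IsQCoh ((Scheme.Modules.pushforward W.ι).obj
      ((Scheme.Modules.restrictFunctor W.ι).obj S.obj)) := by
    haveI : Coh.IsQCoh ((Scheme.Modules.restrictFunctor W.ι).obj S.obj) := inferInstance
    exact isQCoh_pushforward _ W.ι
  rcases isIso_or_eq_zero hq (adj.unit.app S.obj) with hm | h0
  · intro a b hab
    apply Groth.Agent.QCohNoeth.app_injective_of_mono (adj.unit.app S.obj) U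
    erw [Scheme.Modules.restrictAdjunction_unit_app_app]
    have hle : W.ι ''ᵁ W.ι ⁻¹ᵁ U ≤ U ⊓ W := le_inf (W.ι.image_preimage_le U) (W.ι_image_le _)
    exact ((res_res S.obj hle inf_le_left a).symm.trans
      ((congrArg (S.obj.presheaf.map (homOfLE hle).op) hab).trans (res_res S.obj hle inf_le_left b)))
  · exfalso
    have h1 : (adj.unit.app S.obj).app W s = 0 := by rw [h0]; rfl
    erw [Scheme.Modules.restrictAdjunction_unit_app_app] at h1
    have hle : W ≤ W.ι ''ᵁ W.ι ⁻¹ᵁ W := fun z hz => ⟨⟨z, hz⟩, hz, rfl⟩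
    have h2 := (res_res S.obj hle (W.ι.image_preimage_le W) s).symm.trans
      (congrArg (S.obj.presheaf.map (homOfLE hle).op) h1)
    exact hs ((res_self S.obj s).symm.trans (h2.trans (map_zero _)))

include hW hs in
lemma exists_global (u : Γ(S.obj, W)) :
    ∃ t : Γ(S.obj, ⊤), S.obj.presheaf.map (homOfLE (le_top : W ≤ ⊤)).op t = u := by
  let Ms : TopCat.Sheaf Ab X := ⟨S.obj.presheaf, S.obj.isSheaf⟩
  let V : X.Opens := ⟨({pt hW hs} : Set X)ᶜ, (isClosed_pt hW hs).isOpen_compl⟩
  let U : Bool → X.Opens := fun b => if b then W else V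
  let sf : ∀ b, Γ(S.obj, U b) := fun b => match b with
    | true => u
    | false => 0
  have hle : ∀ b, U b ≤ ⊤ := fun b => le_top
  have hz : ∀ (O : X.Opens), O ≤ W → O ≤ V → ∀ z : Γ(S.obj, O), z = 0 := fun O h1 h2 z =>
    eq_zero_of_notMem hW hs h1 (fun h => h2 h rfl) z
  have hcompat : TopCat.Presheaf.IsCompatible S.obj.presheaf U sf := by
    intro a b
    cases a <;> cases b
    · rfl
    · exact (hz _ inf_le_right inf_le_left _).trans (hz _ inf_le_right inf_le_left _).symm
    · exact (hz _ inf_le_left inf_le_right _).trans (hz _ inf_le_left inf_le_right _).symm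
    · rfl
  obtain ⟨t, ht, -⟩ := Ms.existsUnique_gluing' U ⊤ (fun b => homOfLE (hle b)) (fun x _ => by
    by_cases h : x = pt hW hs
    · exact Opens.mem_iSup.2 ⟨true, h ▸ pt_mem hW hs⟩
    · exact Opens.mem_iSup.2 ⟨false, h⟩) sf hcompat
  exact ⟨t, ht true⟩

omit hW hs in
/-- A simple quasi-coherent module has a nonzero global section. -/
theorem exists_ne_zero_top : ∃ φ : Coh.structureModule X ⟶ S.obj, φ ≠ 0 := by
  obtain ⟨W, hW, s, hs⟩ := exists_nonzero_affine (S := S)
  obtain ⟨t, rfl⟩ := exists_global hW hs s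
  refine ⟨secHom S.obj t, fun h => hs ?_⟩
  rw [show t = homSec (secHom S.obj t) from (homSec_secHom _ _).symm, h]
  exact map_zero _

omit hW hs in
/-- Two maps to a simple module with the first nonzero: the second kills the kernel of the first. -/
theorem app_eq_zero_of_app_eq_zero {φ ψ : Coh.structureModule X ⟶ S.obj} (hφ : φ ≠ 0) (U : X.Opens)
    (a : Γ(X, U)) (h : φ.app U a = 0) : ψ.app U a = 0 := by
  obtain ⟨W, hW, s, hs⟩ := exists_nonzero_affine (S := S)
  have hφW : S.obj.presheaf.map (homOfLE (le_top : W ≤ ⊤)).op (homSec φ) ≠ 0 := fun h0 => by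
    refine hφ (hom_ext_sec ?_)
    apply res_inter_injective hW hs ⊤
    refine Eq.trans ?_ (map_zero _).symm
    have := congrArg (S.obj.presheaf.map (homOfLE (inf_le_right : ⊤ ⊓ W ≤ W)).op) h0
    rw [res_res, map_zero] at this
    exact this
  obtain ⟨c, hc⟩ := span_eq_top hW hφW (S.obj.presheaf.map (homOfLE (le_top : W ≤ ⊤)).op (homSec ψ))
  apply res_inter_injective hW hs U
  rw [map_zero, app_eq_smul, Scheme.Modules.map_smul, res_res]
  have h' := congrArg (S.obj.presheaf.map (homOfLE (inf_le_left : U ⊓ W ≤ U)).op) h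
  rw [map_zero, app_eq_smul, Scheme.Modules.map_smul, res_res] at h'
  have hc' := congrArg (S.obj.presheaf.map (homOfLE (inf_le_right : U ⊓ W ≤ W)).op) hc
  rw [Scheme.Modules.map_smul, res_res, res_res] at hc'
  rw [← hc', smul_comm, h', smul_zero]

end Groth.Agent.QCohAffine
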